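import Mathlib
import Cfsg.Prelude.Def_EvenType
import Cfsg.Agent.FastGrp
import Cfsg.Agent.Prune
set_option linter.all false
prune_inst 0x7f00000000000000000000000000000000000000000000000000000000000000000000000000000000000000000000000000000000000000000000000000000000000000000000000000000000000000003fffffffffffffffffffffffffffbeffbdffffffff
open scoped Cfsg.Agent.FastGrp

-- merged: Cfsg.Agent.SigZero.Rank
section

/-!
# Elementary abelian groups of linear transformations

`rank_le` : a commutative group `A` of exponent `p` of linear transformations of `V` satisfies `#A ≤ p ^ r` for some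
`r` with `c * r + dim C_V(A) ≤ dim V`, where `c = 1`, or `c = 2` if the field has no element of order `p`.
-/

set_option autoImplicit false

namespace Cfsg.Agent.SigZero

open Module

variable {k V : Type*} [Field k] [AddCommGroup V] [Module k V]

/-- The fixed space of a group of linear transformations. -/
def fix (A : Subgroup (V ≃ₗ[k] V)) : Submodule k V where
  carrier := {v | ∀ a ∈ A, a v = v}
  add_mem' {x y} hx hy := fun a ha => by rw [map_add, hx a ha, hy a ha]
  zero_mem' := fun a _ => map_zero a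
  smul_mem' c {x} hx := fun a ha => by rw [map_smul, hx a ha]

theorem mem_fix {A : Subgroup (V ≃ₗ[k] V)} {v : V} : v ∈ fix A ↔ ∀ a ∈ A, a v = v := Iff.rfl

theorem fix_anti {A B : Subgroup (V ≃ₗ[k] V)} (h : A ≤ B) : fix B ≤ fix A := fun _ hv a ha => hv a (h ha)

theorem pow_apply_of_sq_zero {a : V ≃ₗ[k] V} {v : V} (h : a (a v - v) = a v - v) (n : ℕ) :
    (a ^ n) v = v + (n : k) • (a v - v) := by
  induction n with
  | zero => simp
  | succ n ih =>
    rw [pow_succ', LinearEquiv.mul_apply, ih, map_add, map_smul, h]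
    push_cast
    rw [add_smul, one_smul]
    abel

/-- A transformation of order prime to the characteristic has no fixed vector of the form `a v - v`. -/
theorem sub_eq_zero_of_fixed {a : V ≃ₗ[k] V} {p : ℕ} (hpk : (p : k) ≠ 0) (ha : a ^ p = 1) {v : V}
    (h : a (a v - v) = a v - v) : a v - v = 0 := by
  have h1 := pow_apply_of_sq_zero h p
  rw [ha] at h1
  have h2 : (p : k) • (a v - v) = 0 := by
    have h3 : (1 : V ≃ₗ[k] V) v = v := rfl
    rw [h3] at h1
    exact left_eq_add.1 h1
  exact (smul_eq_zero.1 h2).resolve_left hpk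

/-- `Y` is a minimal nonzero `A`-invariant subspace. -/
structure IsMin (A : Subgroup (V ≃ₗ[k] V)) (Y : Submodule k V) : Prop where
  ne : Y ≠ ⊥
  inv : ∀ a ∈ A, ∀ y ∈ Y, a y ∈ Y
  min : ∀ Z : Submodule k V, Z ≤ Y → Z ≠ ⊥ → (∀ a ∈ A, ∀ y ∈ Z, a y ∈ Z) → Z = Y

theorem exists_isMin [FiniteDimensional k V] {A : Subgroup (V ≃ₗ[k] V)} {Y : Submodule k V} (hY : Y ≠ ⊥)
    (hinv : ∀ a ∈ A, ∀ y ∈ Y, a y ∈ Y) : ∃ Z ≤ Y, IsMin A Z := by
  have hwf : WellFounded ((· < ·) : Submodule k V → Submodule k V → Prop) := wellFounded_lt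
  let S : Set (Submodule k V) := {Z | Z ≤ Y ∧ Z ≠ ⊥ ∧ ∀ a ∈ A, ∀ y ∈ Z, a y ∈ Z}
  have hne : S.Nonempty := ⟨Y, le_rfl, hY, hinv⟩
  have hm := hwf.min_mem S hne
  refine ⟨hwf.min S hne, hm.1, hm.2.1, hm.2.2, fun Z hZ hZ0 hZi => ?_⟩
  by_contra h
  exact hwf.not_lt_min S (⟨hZ.trans hm.1, hZ0, hZi⟩ : Z ∈ S) (lt_of_le_of_ne hZ h)

section Min

variable {A : Subgroup (V ≃ₗ[k] V)} {Y : Submodule k V}

theorem IsMin.fixed_zero (hY : IsMin A Y) (hA : ∀ a ∈ A, ∀ b ∈ A, a * b = b * a) {b : V ≃ₗ[k] V} (hb : b ∈ A)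
    (hbY : ¬ ∀ y ∈ Y, b y = y) {y : V} (hy : y ∈ Y) (hby : b y = y) : y = 0 := by
  by_contra hy0
  let Z : Submodule k V :=
    { carrier := {z | z ∈ Y ∧ b z = z}
      add_mem' := fun {x y} hx hy => ⟨Y.add_mem hx.1 hy.1, by rw [map_add, hx.2, hy.2]⟩
      zero_mem' := ⟨Y.zero_mem, map_zero b⟩
      smul_mem' := fun c {x} hx => ⟨Y.smul_mem c hx.1, by rw [map_smul, hx.2]⟩ }
  have hZ : Z = Y := by
    refine hY.min Z (fun z hz => hz.1) ?_ ?_
    · intro h
      have : y ∈ Z := ⟨hy, hby⟩
      rw [h] at this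
      exact hy0 ((Submodule.mem_bot k).1 this)
    · rintro a ha z ⟨hz, hbz⟩
      refine ⟨hY.inv a ha z hz, ?_⟩
      have h1 := hA a ha b hb
      have h2 : b (a z) = a (b z) := by
        rw [← LinearEquiv.mul_apply, ← LinearEquiv.mul_apply, h1]
      rw [h2, hbz]
  exact hbY fun z hz => by
    rw [← hZ] at hz
    exact hz.2

theorem pow_mem_inv (hinv : ∀ a ∈ A, ∀ y ∈ Y, a y ∈ Y) {b : V ≃ₗ[k] V} (hb : b ∈ A) (n : ℕ) {y : V} (hy : y ∈ Y) :
    (b ^ n) y ∈ Y := hinv _ (A.pow_mem hb n) y hy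

theorem IsMin.sum_eq_zero (hY : IsMin A Y) (hA : ∀ a ∈ A, ∀ b ∈ A, a * b = b * a) {p : ℕ}
    (hAp : ∀ a ∈ A, a ^ p = 1) {b : V ≃ₗ[k] V} (hb : b ∈ A)
    (hbY : ¬ ∀ y ∈ Y, b y = y) {y : V} (hy : y ∈ Y) : ∑ j ∈ Finset.range p, (b ^ j) y = 0 := by
  refine hY.fixed_zero hA hb hbY (Y.sum_mem fun j _ => pow_mem_inv hY.inv hb j hy) ?_
  rw [map_sum]
  have h1 : ∀ j, b ((b ^ j) y) = (b ^ (j + 1)) y := fun j => by
    rw [pow_succ', LinearEquiv.mul_apply]
  simp only [h1]
  have h2 := Finset.sum_range_succ (fun j => (b ^ j) y) p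
  have h3 := Finset.sum_range_succ' (fun j => (b ^ j) y) p
  rw [h2, hAp b hb, pow_zero] at h3
  exact (add_right_cancel h3).symm

/-- The group `A` induces on a minimal invariant subspace a group of order at most `p`. -/
theorem IsMin.exists_pow (hY : IsMin A Y) (hA : ∀ a ∈ A, ∀ b ∈ A, a * b = b * a) {p : ℕ} (hp : p.Prime)
    (hpk : (p : k) ≠ 0) (hAp : ∀ a ∈ A, a ^ p = 1) {b c : V ≃ₗ[k] V} (hb : b ∈ A) (hc : c ∈ A)
    (hbY : ¬ ∀ y ∈ Y, b y = y) : ∃ j < p, ∀ y ∈ Y, (b ^ j * c) y = y := by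
  by_contra hcon
  push Not at hcon
  apply hY.ne
  rw [Submodule.eq_bot_iff]
  intro y hy
  have hS : ∀ j ∈ Finset.range p, ∑ i ∈ Finset.range p, ((b ^ j * c) ^ i) y = 0 := by
    intro j hj
    refine hY.sum_eq_zero hA hAp (A.mul_mem (A.pow_mem hb j) hc) ?_ hy
    intro h
    obtain ⟨z, hz, hzn⟩ := hcon j (Finset.mem_range.1 hj)
    exact hzn (h z hz)
  have hbc : Commute b c := hA b hb c hc
  have h1 : ∑ j ∈ Finset.range p, ∑ i ∈ Finset.range p, ((b ^ j * c) ^ i) y = 0 := Finset.sum_eq_zero hS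
  rw [Finset.sum_comm] at h1
  have h2 : ∀ i ∈ Finset.range p, i ≠ 0 → ∑ j ∈ Finset.range p, ((b ^ j * c) ^ i) y = 0 := by
    intro i hi hi0
    have h3 : ∀ j, ((b ^ j * c) ^ i) y = ((b ^ i) ^ j) ((c ^ i) y) := by
      intro j
      rw [← LinearEquiv.mul_apply, (Commute.pow_left hbc j).mul_pow, ← pow_mul, ← pow_mul, mul_comm j i]
    simp only [h3]
    refine hY.sum_eq_zero hA hAp (A.pow_mem hb i) ?_ (pow_mem_inv hY.inv hc i hy)
    intro h
    apply hbY
    have hcop : Nat.Coprime i p := by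
      rw [Nat.coprime_comm]
      exact (Nat.Prime.coprime_iff_not_dvd hp).2 fun hd =>
        absurd (Nat.le_of_dvd (Nat.pos_of_ne_zero hi0) hd) (not_le.2 (Finset.mem_range.1 hi))
    obtain ⟨m, -, hm⟩ := Nat.exists_mul_mod_eq_one_of_coprime hcop hp.one_lt
    have h4 : (b ^ i) ^ m = b := by
      rw [← pow_mul, ← Nat.div_add_mod (i * m) p, hm, pow_add, pow_mul, hAp b hb, one_pow, one_mul, pow_one]
    intro z hz
    have h5 : ∀ n : ℕ, ((b ^ i) ^ n) z = z := by
      intro n
      induction n with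
      | zero => simp
      | succ n ih => rw [pow_succ, LinearEquiv.mul_apply, h z hz, ih]
    have h6 := h5 m
    rwa [h4] at h6
  rw [Finset.sum_eq_single_of_mem 0 (Finset.mem_range.2 hp.pos) h2] at h1
  have h7 : ((p : ℕ) : k) • y = 0 := by
    rw [← h1]
    simp [Nat.cast_smul_eq_nsmul]
  exact (smul_eq_zero.1 h7).resolve_left hpk

end Min

/-- The elements of `A` acting trivially on `Y`. -/
def cent (A : Subgroup (V ≃ₗ[k] V)) (Y : Submodule k V) : Subgroup (V ≃ₗ[k] V) where
  carrier := {b | b ∈ A ∧ ∀ y ∈ Y, b y = y}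
  mul_mem' {a b} ha hb := ⟨A.mul_mem ha.1 hb.1, fun y hy => by
    rw [LinearEquiv.mul_apply, hb.2 y hy, ha.2 y hy]⟩
  one_mem' := ⟨A.one_mem, fun _ _ => rfl⟩
  inv_mem' {a} ha := ⟨A.inv_mem ha.1, fun y hy => by
    have h1 : a⁻¹ (a y) = y := by
      rw [← LinearEquiv.mul_apply, inv_mul_cancel]
      rfl
    rwa [ha.2 y hy] at h1⟩

theorem cent_le (A : Subgroup (V ≃ₗ[k] V)) (Y : Submodule k V) : cent A Y ≤ A := fun _ h => h.1

theorem le_fix_cent (A : Subgroup (V ≃ₗ[k] V)) (Y : Submodule k V) : Y ≤ fix (cent A Y) := fun y hy _ hb => hb.2 y hy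

/-- The order of `A` is at most `p` times the order of the centralizer of a minimal invariant subspace. -/
theorem IsMin.card_le {A : Subgroup (V ≃ₗ[k] V)} [Finite A] {Y : Submodule k V} (hY : IsMin A Y)
    (hA : ∀ a ∈ A, ∀ b ∈ A, a * b = b * a) {p : ℕ} (hp : p.Prime)
    (hpk : (p : k) ≠ 0) (hAp : ∀ a ∈ A, a ^ p = 1) : Nat.card A ≤ p * Nat.card (cent A Y) := by
  have hfin : Finite (cent A Y) := Finite.of_injective _ (Subgroup.inclusion_injective (cent_le A Y))
  by_cases hall : ∀ b ∈ A, ∀ y ∈ Y, b y = y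
  · have h1 : cent A Y = A := le_antisymm (cent_le A Y) fun b hb => ⟨hb, hall b hb⟩
    rw [h1]
    exact Nat.le_mul_of_pos_left _ hp.pos
  · push Not at hall
    obtain ⟨b, hb, z, hz, hbz⟩ := hall
    have hbY : ¬ ∀ y ∈ Y, b y = y := fun h => hbz (h z hz)
    let f : Fin p × cent A Y → A := fun x => ⟨(b ^ (x.1 : ℕ))⁻¹ * x.2, A.mul_mem (A.inv_mem (A.pow_mem hb _)) x.2.2.1⟩
    have hf : Function.Surjective f := by
      rintro ⟨c, hc⟩
      obtain ⟨j, hj, hjy⟩ := hY.exists_pow hA hp hpk hAp hb hc hbY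
      refine ⟨(⟨j, hj⟩, ⟨b ^ j * c, A.mul_mem (A.pow_mem hb j) hc, hjy⟩), ?_⟩
      apply Subtype.ext
      change (b ^ j)⁻¹ * (b ^ j * c) = c
      rw [inv_mul_cancel_left]
    have h1 := Nat.card_le_card_of_surjective f hf
    rwa [Nat.card_prod, Nat.card_fin] at h1

/-- **The rank lemma.** -/
theorem rank_le [FiniteDimensional k V] {p : ℕ} (hp : p.Prime) (hpk : (p : k) ≠ 0) {c : ℕ}
    (hc : c = 1 ∨ (c = 2 ∧ ∀ x : k, x ^ p = 1 → x = 1)) :
    ∀ (n : ℕ) (A : Subgroup (V ≃ₗ[k] V)) [Finite A], Nat.card A ≤ n → (∀ a ∈ A, ∀ b ∈ A, a * b = b * a) →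
      (∀ a ∈ A, a ^ p = 1) → ∃ r, Nat.card A ≤ p ^ r ∧ c * r + finrank k (fix A) ≤ finrank k V := by
  intro n
  induction n with
  | zero =>
    intro A _ hn
    have := Nat.card_pos (α := A)
    omega
  | succ n ih =>
    intro A _ hn hA hAp
    by_cases htriv : A = ⊥
    · refine ⟨0, ?_, ?_⟩
      · rw [htriv]
        simp
      · simp only [mul_zero, zero_add]
        exact Submodule.finrank_le _
    · obtain ⟨⟨a, ha⟩, ha1'⟩ := Subgroup.ne_bot_iff_exists_ne_one.1 htriv
      have ha1 : a ≠ 1 := fun h => ha1' (Subtype.ext h)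
      -- the subspace `[V, a]`
      let Y₀ : Submodule k V := LinearMap.range ((a : V →ₗ[k] V) - LinearMap.id)
      have hY₀ : ∀ y ∈ Y₀, a y = y → y = 0 := by
        rintro _ ⟨v, rfl⟩ h
        exact sub_eq_zero_of_fixed hpk (hAp a ha) h
      have hY₀ne : Y₀ ≠ ⊥ := by
        intro h
        apply ha1
        ext v
        have h1 : a v - v ∈ Y₀ := ⟨v, rfl⟩
        rw [h] at h1
        exact sub_eq_zero.1 ((Submodule.mem_bot k).1 h1)
      obtain ⟨Y, hYY, hY⟩ := exists_isMin (A := A) hY₀ne (by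
        rintro b hb _ ⟨v, rfl⟩
        refine ⟨b v, ?_⟩
        change a (b v) - b v = b (a v - v)
        rw [map_sub, ← LinearEquiv.mul_apply, ← LinearEquiv.mul_apply, hA a ha b hb])
      have hYa : ∀ y ∈ Y, a y = y → y = 0 := fun y hy => hY₀ y (hYY hy)
      have haC : a ∉ cent A Y := by
        rintro ⟨-, h⟩
        exact hY.ne ((Submodule.eq_bot_iff Y).2 fun y hy => hYa y hy (h y hy))
      have hlt : Nat.card (cent A Y) < Nat.card A := by
        refine lt_of_le_of_ne (Nat.card_le_card_of_injective _ (Subgroup.inclusion_injective (cent_le A Y))) fun h => ?_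
        have h1 := Subgroup.eq_of_le_of_card_ge (cent_le A Y) h.ge
        exact haC (by rw [h1]; exact ha)
      have hfin : Finite (cent A Y) := Finite.of_injective _ (Subgroup.inclusion_injective (cent_le A Y))
      obtain ⟨r, hr, hrc⟩ := ih (cent A Y) (by omega) (fun x hx y hy => hA x hx.1 y hy.1) fun x hx => hAp x hx.1
      refine ⟨r + 1, ?_, ?_⟩
      · calc Nat.card A ≤ p * Nat.card (cent A Y) := hY.card_le hA hp hpk hAp
          _ ≤ p * p ^ r := Nat.mul_le_mul_left _ hr
          _ = p ^ (r + 1) := (pow_succ' p r).symm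
      · have hdisj : fix A ⊓ Y = ⊥ := by
          rw [Submodule.eq_bot_iff]
          rintro y ⟨hy1, hy2⟩
          exact hYa y hy2 (hy1 a ha)
        have hsup : fix A ⊔ Y ≤ fix (cent A Y) := sup_le (fix_anti (cent_le A Y)) (le_fix_cent A Y)
        have h1 := Submodule.finrank_sup_add_finrank_inf_eq (fix A) Y
        rw [hdisj, finrank_bot, add_zero] at h1
        have h2 := Submodule.finrank_mono hsup
        have h3 : c ≤ finrank k Y := by
          have h4 : 1 ≤ finrank k Y := by
            rw [Nat.one_le_iff_ne_zero]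
            intro h
            exact hY.ne (Submodule.finrank_eq_zero.1 h)
          rcases hc with rfl | ⟨rfl, hc⟩
          · exact h4
          · by_contra h5
            have h6 : finrank k Y = 1 := by omega
            obtain ⟨y, hy0, hy⟩ := finrank_eq_one_iff'.1 h6
            obtain ⟨x, hx⟩ := hy ⟨a y, hY.inv a ha y y.2⟩
            have hx' : a (y : V) = x • (y : V) := (congrArg Subtype.val hx).symm
            have hpow : ∀ m : ℕ, (a ^ m) (y : V) = x ^ m • (y : V) := by
              intro m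
              induction m with
              | zero => simp
              | succ m ihm => rw [pow_succ, LinearEquiv.mul_apply, hx', map_smul, ihm, smul_smul, pow_succ, mul_comm]
            have h7 : x ^ p = 1 := by
              have h8 := hpow p
              rw [hAp a ha] at h8
              have h9 : ((1 : k) - x ^ p) • (y : V) = 0 := by
                rw [sub_smul, one_smul, ← h8]
                exact sub_self _
              rcases smul_eq_zero.1 h9 with h10 | h10
              · exact (sub_eq_zero.1 h10).symm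
              · exact absurd (Subtype.ext h10) hy0
            rw [hc x h7, one_smul] at hx'
            exact hy0 (Subtype.ext (hYa _ y.2 hx'))
        rw [mul_add, mul_one]
        omega

end Cfsg.Agent.SigZero

end

-- merged: Cfsg.Agent.SigZero.Iso
section

/-!
# Elementary abelian groups of isometries normalizing a 2-group

* `Form k V` : an additive, left linear, reflexive, nondegenerate form;
* `Form.inf_perp_ne_bot` : the fixed space of a nontrivial 2-group of isometries (characteristic 2) is degenerate;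
* `Form.fix_nondeg` : the fixed space of a group of isometries of order prime to the characteristic is nondegenerate;
* `sp_main` : if `k` has no element of order `p` (an odd prime), an elementary abelian `p`-group of isometries of a
  nondegenerate alternating form of dimension `2 m`, normalizing a nontrivial 2-group of isometries, has rank `< m`.
-/

set_option autoImplicit false

namespace Cfsg.Agent.SigZero

open Module

/-- A reflexive nondegenerate form. -/
structure Form (k V : Type*) [Field k] [AddCommGroup V] [Module k V] where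
  h : V → V → k
  add_left : ∀ u v w, h (u + v) w = h u w + h v w
  smul_left : ∀ (c : k) u v, h (c • u) v = c * h u v
  refl : ∀ u v, h u v = 0 → h v u = 0
  nondeg : ∀ u, (∀ v, h u v = 0) → u = 0

variable {k V : Type*} [Field k] [AddCommGroup V] [Module k V]

namespace Form

variable (B : Form k V)

theorem zero_left (v : V) : B.h 0 v = 0 := by
  have h1 := B.add_left 0 0 v
  rw [add_zero] at h1
  exact left_eq_add.1 h1

theorem zero_right (v : V) : B.h v 0 = 0 := B.refl _ _ (B.zero_left v)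

theorem sub_left (u v w : V) : B.h (u - v) w = B.h u w - B.h v w := by
  have h1 := B.add_left (u - v) v w
  rw [sub_add_cancel] at h1
  rw [h1, add_sub_cancel_right]

theorem sum_left {ι : Type*} (s : Finset ι) (f : ι → V) (w : V) : B.h (∑ i ∈ s, f i) w = ∑ i ∈ s, B.h (f i) w := by
  classical
  induction s using Finset.induction_on with
  | empty => simp [B.zero_left]
  | insert a s ha ih => rw [Finset.sum_insert ha, Finset.sum_insert ha, B.add_left, ih]

/-- The vectors orthogonal to `W`. -/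
def perp (W : Submodule k V) : Submodule k V where
  carrier := {v | ∀ w ∈ W, B.h v w = 0}
  add_mem' {x y} hx hy := fun w hw => by rw [B.add_left, hx w hw, hy w hw, add_zero]
  zero_mem' := fun w _ => B.zero_left w
  smul_mem' c {x} hx := fun w hw => by rw [B.smul_left, hx w hw, mul_zero]

theorem mem_perp {W : Submodule k V} {v : V} : v ∈ B.perp W ↔ ∀ w ∈ W, B.h v w = 0 := Iff.rfl

/-- `A` consists of isometries. -/
def Isom (A : Subgroup (V ≃ₗ[k] V)) : Prop := ∀ a ∈ A, ∀ u v, B.h (a u) (a v) = B.h u v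

/-- A finite `p`-group of linear transformations acting on a nonzero quotient of a finite space of characteristic `p`
has a nonzero fixed vector there. -/
theorem _root_.Cfsg.Agent.SigZero.exists_fixed_mod [Finite V] {p : ℕ} [Fact p.Prime] [CharP k p]
    {R : Subgroup (V ≃ₗ[k] V)} (hR : IsPGroup p ↥R) {W : Submodule k V} (hW : W ≠ ⊤)
    (hinv : ∀ r ∈ R, ∀ w ∈ W, r w ∈ W) : ∃ v, v ∉ W ∧ ∀ r ∈ R, r v - v ∈ W := by
  classical
  let act : R → (V ⧸ W) → (V ⧸ W) := fun r =>
    Submodule.mapQ W W ((r : V ≃ₗ[k] V) : V →ₗ[k] V) (fun w hw => hinv r r.2 w hw)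
  let inst : MulAction R (V ⧸ W) :=
    { smul := fun r x => act r x
      one_smul := fun x => by
        obtain ⟨v, rfl⟩ := Submodule.Quotient.mk_surjective W x
        rfl
      mul_smul := fun r s x => by
        obtain ⟨v, rfl⟩ := Submodule.Quotient.mk_surjective W x
        rfl }
  have hsmul : ∀ (r : R) (v : V), (r • (Submodule.Quotient.mk v : V ⧸ W)) = Submodule.Quotient.mk ((r : V ≃ₗ[k] V) v) :=
    fun _ _ => rfl
  have hfin : Finite (V ⧸ W) := Quotient.finite _
  have hnt : Nontrivial (V ⧸ W) := Submodule.Quotient.nontrivial_iff.2 hW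
  have hdvd : p ∣ Nat.card (V ⧸ W) := by
    obtain ⟨x, hx⟩ := exists_ne (0 : V ⧸ W)
    have hord : addOrderOf x = p := by
      have h1 : p • x = 0 := by
        rw [← Nat.cast_smul_eq_nsmul k, CharP.cast_eq_zero, zero_smul]
      exact addOrderOf_eq_prime h1 hx
    rw [← hord]
    exact addOrderOf_dvd_natCard x
  have h0 : (0 : V ⧸ W) ∈ MulAction.fixedPoints R (V ⧸ W) := by
    intro r
    have := hsmul r 0
    rw [map_zero] at this
    exact this
  obtain ⟨x, hx, hx0⟩ := hR.exists_fixed_point_of_prime_dvd_card_of_fixed_point (V ⧸ W) hdvd h0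
  obtain ⟨v, rfl⟩ := Submodule.Quotient.mk_surjective W x
  refine ⟨v, fun hv => hx0.symm ((Submodule.Quotient.mk_eq_zero W).2 hv), fun r hr => ?_⟩
  have h1 := hx ⟨r, hr⟩
  rw [hsmul] at h1
  exact (Submodule.Quotient.eq W).1 h1

/-- The fixed space of a nontrivial `p`-group of isometries in characteristic `p` meets its orthogonal. -/
theorem inf_perp_ne_bot [Finite V] {p : ℕ} [Fact p.Prime] [CharP k p] {R : Subgroup (V ≃ₗ[k] V)}
    (hR : IsPGroup p ↥R) (hB : B.Isom R) (hne : R ≠ ⊥) : fix R ⊓ B.perp (fix R) ≠ ⊥ := by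
  intro hbot
  apply hne
  rw [Subgroup.eq_bot_iff_forall]
  by_cases hW : fix R = ⊤
  · intro r hr
    ext v
    have : v ∈ fix R := by rw [hW]; trivial
    exact this r hr
  · exfalso
    obtain ⟨v, hv, hrv⟩ := exists_fixed_mod hR hW (fun r hr w hw => by
      rw [hw r hr]
      exact hw)
    apply hv
    intro r hr
    have h1 : r v - v ∈ B.perp (fix R) := by
      intro w hw
      rw [B.sub_left]
      have h2 := hB r hr v w
      rw [hw r hr] at h2
      rw [h2, sub_self]
    have h3 : r v - v ∈ fix R ⊓ B.perp (fix R) := ⟨hrv r hr, h1⟩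
    rw [hbot] at h3
    exact sub_eq_zero.1 ((Submodule.mem_bot k).1 h3)

/-- The fixed space of a group normalizing `R` ... is invariant. -/
theorem _root_.Cfsg.Agent.SigZero.fix_invariant {R : Subgroup (V ≃ₗ[k] V)} {a : V ≃ₗ[k] V}
    (ha : ∀ r ∈ R, a⁻¹ * r * a ∈ R) {v : V} (hv : v ∈ fix R) : a v ∈ fix R := by
  intro r hr
  have h1 := hv _ (ha r hr)
  have h2 : a ((a⁻¹ * r * a) v) = r (a v) := by
    rw [← LinearEquiv.mul_apply, ← LinearEquiv.mul_apply]
    congr 1
    group
  rw [← h2, h1]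

theorem perp_invariant {W : Submodule k V} {a : V ≃ₗ[k] V} (hB : ∀ u v, B.h (a u) (a v) = B.h u v)
    (hW : ∀ w ∈ W, a⁻¹ w ∈ W) {v : V} (hv : v ∈ B.perp W) : a v ∈ B.perp W := by
  intro w hw
  have h1 := hB v (a⁻¹ w)
  have h2 : a (a⁻¹ w) = w := by
    rw [← LinearEquiv.mul_apply, mul_inv_cancel]
    rfl
  rw [h2] at h1
  rw [h1]
  exact hv _ (hW w hw)

/-- The fixed space of a group of isometries of order prime to the characteristic is nondegenerate. -/
theorem fix_nondeg {A : Subgroup (V ≃ₗ[k] V)} [Finite A] (hA : B.Isom A) (hc : (Nat.card A : k) ≠ 0) {w : V}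
    (hw : w ∈ fix A) (h : ∀ w' ∈ fix A, B.h w' w = 0) : w = 0 := by
  have := Fintype.ofFinite A
  apply B.nondeg
  intro v
  apply B.refl
  let e : V := ∑ a : A, (a : V ≃ₗ[k] V) v
  have he : e ∈ fix A := by
    intro b hb
    change b (∑ a : A, (a : V ≃ₗ[k] V) v) = _
    rw [map_sum]
    have h1 : ∀ a : A, b ((a : V ≃ₗ[k] V) v) = ((⟨b, hb⟩ * a : A) : V ≃ₗ[k] V) v := fun a => rfl
    simp only [h1]
    exact Equiv.sum_comp (Equiv.mulLeft (⟨b, hb⟩ : A)) (fun a : A => (a : V ≃ₗ[k] V) v)
  have h1 := h e he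
  have h2 : B.h e w = (Nat.card A : k) * B.h v w := by
    change B.h (∑ a : A, (a : V ≃ₗ[k] V) v) w = _
    rw [B.sum_left]
    have h3 : ∀ a : A, B.h ((a : V ≃ₗ[k] V) v) w = B.h v w := fun a => by
      have h4 := hA a a.2 v w
      rwa [hw a a.2] at h4
    simp only [h3]
    rw [Finset.sum_const, nsmul_eq_mul, Finset.card_univ, Nat.card_eq_fintype_card]
  rw [h2] at h1
  exact (mul_eq_zero.1 h1).resolve_left hc

end Form

/-- On an invariant line a transformation of order `p` acts trivially if `k` has no element of order `p`. -/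
theorem trivial_of_finrank_one {Y : Submodule k V} (hY1 : finrank k Y = 1) {a : V ≃ₗ[k] V}
    (hinv : ∀ y ∈ Y, a y ∈ Y) {p : ℕ} (hap : a ^ p = 1) (hk : ∀ x : k, x ^ p = 1 → x = 1) :
    ∀ y ∈ Y, a y = y := by
  obtain ⟨y, hy0, hy⟩ := finrank_eq_one_iff'.1 hY1
  obtain ⟨x, hx⟩ := hy ⟨a y, hinv y y.2⟩
  have hx' : a (y : V) = x • (y : V) := (congrArg Subtype.val hx).symm
  have hpow : ∀ m : ℕ, (a ^ m) (y : V) = x ^ m • (y : V) := by
    intro m
    induction m with
    | zero => simp
    | succ m ihm => rw [pow_succ, LinearEquiv.mul_apply, hx', map_smul, ihm, smul_smul, pow_succ, mul_comm]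
  have h7 : x ^ p = 1 := by
    have h8 := hpow p
    rw [hap] at h8
    have h9 : ((1 : k) - x ^ p) • (y : V) = 0 := by
      rw [sub_smul, one_smul, ← h8]
      exact sub_self _
    rcases smul_eq_zero.1 h9 with h10 | h10
    · exact (sub_eq_zero.1 h10).symm
    · exact absurd (Subtype.ext h10) hy0
  rw [hk x h7, one_smul] at hx'
  intro z hz
  obtain ⟨c, hc⟩ := hy ⟨z, hz⟩
  have hc' : z = c • (y : V) := (congrArg Subtype.val hc).symm
  rw [hc', map_smul, hx']

/-- A totally isotropic subspace of a nondegenerate subspace has at most half its dimension. -/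
theorem two_mul_finrank_le [FiniteDimensional k V] {B : LinearMap.BilinForm k V} (hB : B.IsRefl) {E U : Submodule k V}
    (hE : ∀ w ∈ E, (∀ w' ∈ E, B w' w = 0) → w = 0) (hUE : U ≤ E) (hU : ∀ u ∈ U, ∀ v ∈ U, B u v = 0) :
    2 * finrank k U ≤ finrank k E := by
  let B' : LinearMap.BilinForm k E := B.restrict E
  have hrefl : B'.IsRefl := fun x y h => hB _ _ h
  have hnd : B'.Nondegenerate := by
    rw [LinearMap.BilinForm.nondegenerate_iff_ker_eq_bot, LinearMap.ker_eq_bot']
    intro w hw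
    apply Subtype.ext
    refine hE w w.2 fun w' hw' => ?_
    apply hB
    exact LinearMap.congr_fun hw ⟨w', hw'⟩
  let U' : Submodule k E := U.comap E.subtype
  have h1 := LinearMap.BilinForm.finrank_orthogonal hnd U'
  have h2 : U' ≤ B'.orthogonal U' := by
    intro u hu v hv
    exact hU _ hv _ hu
  have h3 := Submodule.finrank_mono h2
  have h4 : finrank k U' = finrank k U := (Submodule.comapSubtypeEquivOfLe hUE).finrank_eq
  have h5 := Submodule.finrank_le U'
  omega

/-- The form given by a reflexive nondegenerate bilinear form. -/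
def ofBilin (B : LinearMap.BilinForm k V) (hB : B.IsRefl) (hn : ∀ u, (∀ v, B u v = 0) → u = 0) : Form k V where
  h u v := B u v
  add_left u v w := by simp
  smul_left c u v := by simp
  refl u v := hB u v
  nondeg := hn

/-- **Elementary abelian `p`-groups of isometries of a nondegenerate form of dimension `2 m` normalizing a nontrivial
2-group have rank less than `m`** (`p` odd, no element of order `p` in the field). -/
theorem sp_main [Finite V] [CharP k 2] {B : LinearMap.BilinForm k V} (hB : B.IsRefl)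
    (hn : ∀ u, (∀ v, B u v = 0) → u = 0) {m : ℕ} (hm : finrank k V = 2 * m) {p : ℕ} (hp : p.Prime) (hp2 : p ≠ 2)
    (hk : ∀ x : k, x ^ p = 1 → x = 1) {A R : Subgroup (V ≃ₗ[k] V)} (hA : ∀ a ∈ A, ∀ b ∈ A, a * b = b * a)
    (hAp : ∀ a ∈ A, a ^ p = 1) (hAB : ∀ a ∈ A, ∀ u v, B (a u) (a v) = B u v)
    (hR : IsPGroup 2 ↥R) (hRB : ∀ a ∈ R, ∀ u v, B (a u) (a v) = B u v) (hne : R ≠ ⊥)
    (hAR : ∀ a ∈ A, ∀ r ∈ R, a⁻¹ * r * a ∈ R) : ∃ r, Nat.card A ≤ p ^ r ∧ r + 1 ≤ m := by
  classical
  have : Fact (Nat.Prime 2) := ⟨Nat.prime_two⟩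
  have hfd : FiniteDimensional k V := Module.Finite.of_finite
  have hfin : Finite (V ≃ₗ[k] V) := Finite.of_injective (fun e : V ≃ₗ[k] V => (e : V → V)) DFunLike.coe_injective
  have hpk : (p : k) ≠ 0 := by
    rw [Ne, CharP.cast_eq_zero_iff k 2]
    intro h
    exact hp2 ((Nat.prime_dvd_prime_iff_eq Nat.prime_two hp).1 h).symm
  let C := ofBilin B hB hn
  have h0 := C.inf_perp_ne_bot hR hRB hne
  obtain ⟨U, hU, hUm⟩ := exists_isMin (A := A) h0 (by
    rintro a ha v ⟨hv1, hv2⟩
    have hinv : ∀ w ∈ fix R, a⁻¹ w ∈ fix R := fun w hw =>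
      fix_invariant (fun r hr => by
        have := hAR a⁻¹ (A.inv_mem ha) r hr
        exact this) hw
    exact ⟨fix_invariant (hAR a ha) hv1, C.perp_invariant (hAB a ha) hinv hv2⟩)
  have hUiso : ∀ u ∈ U, ∀ v ∈ U, B u v = 0 := fun u hu v hv => (hU hu).2 v (hU hv).1
  have hcard := hUm.card_le hA hp hpk hAp
  have hcle := cent_le A U
  obtain ⟨r, hr, hrc⟩ := rank_le hp hpk (Or.inr ⟨rfl, hk⟩) _ (cent A U) le_rfl
    (fun x hx y hy => hA x (hcle hx) y (hcle hy)) fun x hx => hAp x (hcle hx)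
  have hcoprime : (Nat.card (cent A U) : k) ≠ 0 := by
    have hpg : IsPGroup p (cent A U) := fun x => ⟨1, by
      apply Subtype.ext
      rw [pow_one]
      exact hAp x (hcle x.2)⟩
    have : Fact p.Prime := ⟨hp⟩
    obtain ⟨n, hn⟩ := IsPGroup.iff_card.1 hpg
    rw [hn, Nat.cast_pow]
    exact pow_ne_zero _ hpk
  have hdim := two_mul_finrank_le (B := B) hB (E := fix (cent A U)) (U := U)
    (fun w hw h => C.fix_nondeg (fun a ha => hAB a (hcle ha)) hcoprime hw h) (le_fix_cent A U) hUiso
  have hU1 : 1 ≤ finrank k U := by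
    rw [Nat.one_le_iff_ne_zero]
    intro h
    exact hUm.ne (Submodule.finrank_eq_zero.1 h)
  by_cases htr : ∀ a ∈ A, ∀ u ∈ U, a u = u
  · have hCA : cent A U = A := le_antisymm hcle fun a ha => ⟨ha, htr a ha⟩
    rw [hCA] at hr hrc hdim
    exact ⟨r, hr, by omega⟩
  · have hU2 : 2 ≤ finrank k U := by
      by_contra h
      exact htr fun a ha => trivial_of_finrank_one (by omega) (hUm.inv a ha) (hAp a ha) hk
    refine ⟨r + 1, ?_, by omega⟩
    calc Nat.card A ≤ p * Nat.card (cent A U) := hcard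
      _ ≤ p * p ^ r := Nat.mul_le_mul_left _ hr
      _ = p ^ (r + 1) := (pow_succ' p r).symm

end Cfsg.Agent.SigZero

end

-- merged: Cfsg.Agent.SigZero.Base
section

/-!
# `σ(G) = ∅` from the odd 2-local rank

* `sigma_empty` : if every 2-local subgroup of `G` has odd `p`-ranks at most 3 then `sigmaSet G = ∅`;
* `oddRank_congr` : transport of `OddTwoLocalRankLE` along isomorphisms;
* `matRep` : the action of a group of matrices;
* `oddRank_of_rep` : a group with a faithful representation by isometries of a nondegenerate reflexive form on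
  `F₂ ^ (2 m)` has odd 2-local rank at most `m - 1`.
-/

set_option autoImplicit false

namespace Cfsg.Agent.SigZero

open Module Cfsg

/-- **`σ(G)` is empty if the odd 2-local rank is at most 3.** -/
theorem sigma_empty {G : Type*} [Group G] (h : OddTwoLocalRankLE 3 G) : sigmaSet G = ∅ := by
  rw [Set.eq_empty_iff_forall_notMem]
  rintro p ⟨hp, hp2, S, M, ⟨hM, -⟩, A, hA, hAp, hc⟩
  have h1 := h p hp hp2 M hM.1 A hA hAp
  have h2 : p ^ 3 < p ^ 4 := Nat.pow_lt_pow_right hp.one_lt (by norm_num)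
  omega

theorem pRankLE_congr {G H : Type*} [Group G] [Group H] {p k : ℕ} (e : G ≃* H) (h : PRankLE p k H) :
    PRankLE p k G := by
  intro A hA hp
  have hc : ∀ a ∈ A, ∀ b ∈ A, a * b = b * a := fun a ha b hb => by
    have := hA.is_comm.comm (⟨a, ha⟩ : A) ⟨b, hb⟩
    exact congrArg Subtype.val this
  have h1 := h (A.map e.toMonoidHom) ⟨⟨by
    rintro ⟨_, x, hx, rfl⟩ ⟨_, y, hy, rfl⟩
    apply Subtype.ext
    change e x * e y = e y * e x
    rw [← map_mul, ← map_mul, hc x hx y hy]⟩⟩ (by
    rintro _ ⟨x, hx, rfl⟩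
    change (e x) ^ p = 1
    rw [← map_pow, hp x hx, map_one])
  rwa [Subgroup.card_map_of_injective (f := e.toMonoidHom) e.injective] at h1

/-- Transport of the odd 2-local rank along isomorphisms. -/
theorem oddRank_congr {G H : Type*} [Group G] [Group H] {k : ℕ} (e : G ≃* H) (h : OddTwoLocalRankLE k H) :
    OddTwoLocalRankLE k G := by
  rintro p hp hp2 N ⟨T, hT, hT1, rfl⟩
  have h1 : IsTwoLocal ((Subgroup.normalizer (T : Set G)).map e.toMonoidHom) := by
    refine ⟨T.map e.toMonoidHom, hT.map _, ?_, ?_⟩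
    · intro h0
      rw [Subgroup.map_eq_bot_iff_of_injective _ e.injective] at h0
      exact hT1 h0
    · exact Subgroup.map_equiv_normalizer_eq T e
  exact pRankLE_congr (e.subgroupMap _) (h p hp hp2 _ h1)

section MatRep

variable {H : Type*} [Group H] {ι : Type*} [Fintype ι] [DecidableEq ι] {F : Type*} [Field F]

/-- A group mapped to matrices acts on column vectors. -/
def matRep (f : H →* Matrix ι ι F) : H →* ((ι → F) ≃ₗ[F] (ι → F)) where
  toFun h :=
    { toFun := fun v => (f h).mulVec v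
      map_add' := fun u v => Matrix.mulVec_add _ u v
      map_smul' := fun c v => Matrix.mulVec_smul _ c v
      invFun := fun v => (f h⁻¹).mulVec v
      left_inv := fun v => by
        change (f h⁻¹).mulVec ((f h).mulVec v) = v
        rw [Matrix.mulVec_mulVec, ← map_mul, inv_mul_cancel, map_one, Matrix.one_mulVec]
      right_inv := fun v => by
        change (f h).mulVec ((f h⁻¹).mulVec v) = v
        rw [Matrix.mulVec_mulVec, ← map_mul, mul_inv_cancel, map_one, Matrix.one_mulVec] }
  map_one' := by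
    ext v
    simp
  map_mul' a b := by
    apply LinearEquiv.ext
    intro v
    change (f (a * b)).mulVec v = (f a).mulVec ((f b).mulVec v)
    rw [map_mul, Matrix.mulVec_mulVec]

theorem matRep_apply (f : H →* Matrix ι ι F) (h : H) (v : ι → F) : matRep f h v = (f h).mulVec v := rfl

theorem matRep_injective {f : H →* Matrix ι ι F} (hf : Function.Injective f) : Function.Injective (matRep f) := by
  intro a b hab
  apply hf
  apply Matrix.mulVec_injective
  funext v
  exact congrArg (fun e : (ι → F) ≃ₗ[F] (ι → F) => e v) hab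

end MatRep

/-- The two-element field has no nontrivial roots of unity. -/
theorem eq_one_of_card_two {F : Type*} [Field F] [Fintype F] (hF : Fintype.card F = 2) {p : ℕ} (hp : p ≠ 0) (x : F)
    (hx : x ^ p = 1) : x = 1 := by
  have h0 : x ≠ 0 := by
    rintro rfl
    rw [zero_pow hp] at hx
    exact zero_ne_one hx
  have h1 := FiniteField.pow_card_sub_one_eq_one x h0
  rwa [hF, pow_one] at h1

/-- **A faithful representation by isometries on `F₂ ^ (2 m)` bounds the odd 2-local rank by `m - 1`.** -/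
theorem oddRank_of_rep {G : Type*} [Group G] {F V : Type*} [Field F] [Fintype F] (hF : Fintype.card F = 2)
    [AddCommGroup V] [Module F V] [Finite V] {B : LinearMap.BilinForm F V} (hB : B.IsRefl)
    (hn : ∀ u, (∀ v, B u v = 0) → u = 0) {m : ℕ} (hm : finrank F V = 2 * m) (ρ : G →* (V ≃ₗ[F] V))
    (hρ : Function.Injective ρ) (hiso : ∀ g u v, B (ρ g u) (ρ g v) = B u v) : OddTwoLocalRankLE (m - 1) G := by
  have hchar : CharP F 2 := by
    have : Fact (Nat.Prime 2) := ⟨Nat.prime_two⟩
    exact charP_of_card_eq_prime hF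
  rintro p hp hp2 N ⟨T, hT, hT1, rfl⟩ A hA hAp
  have hAc : ∀ a ∈ A, ∀ b ∈ A, a * b = b * a := fun a ha b hb => by
    have := hA.is_comm.comm (⟨a, ha⟩ : A) ⟨b, hb⟩
    exact congrArg Subtype.val this
  let N : Subgroup G := Subgroup.normalizer (T : Set G)
  obtain ⟨r, hr, hrm⟩ := sp_main hB hn hm hp hp2 (fun x => eq_one_of_card_two hF hp.ne_zero x)
    (A := (A.map N.subtype).map ρ) (R := T.map ρ)
    (by
      rintro _ ⟨_, ⟨a, ha, rfl⟩, rfl⟩ _ ⟨_, ⟨b, hb, rfl⟩, rfl⟩
      rw [← map_mul, ← map_mul, ← map_mul, ← map_mul, hAc a ha b hb])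
    (by
      rintro _ ⟨_, ⟨a, ha, rfl⟩, rfl⟩
      rw [← map_pow, ← map_pow, hAp a ha, map_one, map_one])
    (by
      rintro _ ⟨a, -, rfl⟩
      exact hiso a)
    (hT.map ρ)
    (by
      rintro _ ⟨a, -, rfl⟩
      exact hiso a)
    (by
      intro h0
      rw [Subgroup.map_eq_bot_iff_of_injective _ hρ] at h0
      exact hT1 h0)
    (by
      rintro _ ⟨_, ⟨a, ha, rfl⟩, rfl⟩ _ ⟨t, ht, rfl⟩
      refine ⟨(a : G)⁻¹ * t * a, ?_, by simp⟩
      have h1 := (Subgroup.mem_normalizer_iff.1 (N.inv_mem a.2) t).1 ht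
      rwa [inv_inv] at h1)
  rw [Subgroup.card_map_of_injective hρ, Subgroup.card_map_of_injective N.subtype_injective] at hr
  exact hr.trans (Nat.pow_le_pow_right hp.pos (by omega))

end Cfsg.Agent.SigZero

end
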